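import Cfsg.Agent.Lib.Metacyclic76.Subgroups
import Mathlib.GroupTheory.Frattini
import Mathlib.GroupTheory.Nilpotent
import Mathlib.Algebra.Group.Subgroup.Order

set_option autoImplicit false

/-! The subgroups of `p^s`-th powers, class sizes and the Frattini subgroup of a metacyclic `p`-group. -/

namespace CfsgLib.Metacyclic76.Data

variable {G : Type*} [Group G] [Finite G] {p : ℕ} [Fact p.Prime] (D : Data G p)

include D

theorem pow_card_center (hp : p ≠ 2) (g : G) : g ^ p ^ D.n ∈ Subgroup.center G := by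
  obtain ⟨i, j, rfl⟩ := D.hgen g
  exact (D.pow_mem_center_iff hp i j D.n).mpr ⟨dvd_mul_left _ _, dvd_mul_left _ _⟩

theorem pow_mem_center_iff' (hp : p ≠ 2) (i j s : ℕ) (hs : s ≤ D.n) :
    (D.a ^ i * D.b ^ j) ^ p ^ (D.n - s) ∈ Subgroup.center G ↔ p ^ s ∣ i ∧ p ^ s ∣ j := by
  have h : ∀ x, p ^ D.n ∣ x * p ^ (D.n - s) ↔ p ^ s ∣ x := fun x => by
    have e : p ^ D.n = p ^ s * p ^ (D.n - s) := by rw [← pow_add, Nat.add_sub_cancel' hs]
    rw [e, Nat.mul_dvd_mul_iff_right (pow_pos (Fact.out : p.Prime).pos _)]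
  rw [D.pow_mem_center_iff hp, h, h]

theorem index_le_iff (hp : p ≠ 2) (g : G) (k : ℕ) :
    (Subgroup.centralizer ({g} : Set G)).index ≤ p ^ k ↔ g ^ p ^ k ∈ Subgroup.center G := by
  obtain ⟨v, hv⟩ := IsPGroup.iff_orderOf.mp (D.isPGroup.to_quotient (Subgroup.center G)) (g : G ⧸ _)
  rw [D.index_centralizer hp, ← QuotientGroup.eq_one_iff, QuotientGroup.mk_pow,
    ← orderOf_dvd_iff_pow_eq_one, hv, Nat.pow_le_pow_iff_right (Fact.out : p.Prime).one_lt,
    Nat.pow_dvd_pow_iff_le_right (Fact.out : p.Prime).one_lt]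

theorem mem_powers_closure_iff (hp : p ≠ 2) (s : ℕ) (hs : s ≤ D.n) (g : G) :
    g ∈ Subgroup.closure {x : G | ∃ y : G, y ^ p ^ s = x} ↔ g ^ p ^ (D.n - s) ∈ Subgroup.center G := by
  constructor
  · intro h
    induction h using Subgroup.closure_induction with
    | mem x hx =>
      obtain ⟨y, rfl⟩ := hx
      rw [← pow_mul, ← pow_add, Nat.add_sub_cancel' hs]
      exact D.pow_card_center hp y
    | one => simp
    | mul x y _ _ hx hy =>
      obtain ⟨i, j, rfl⟩ := D.hgen x
      obtain ⟨t, l, rfl⟩ := D.hgen y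
      rw [D.pow_mem_center_iff' hp _ _ _ hs] at hx hy
      rw [D.mul_rule, D.pow_mem_center_iff' hp _ _ _ hs]
      exact ⟨dvd_add hx.1 (dvd_mul_of_dvd_left hy.1 _), dvd_add hx.2 hy.2⟩
    | inv x _ hx =>
      rw [inv_pow]; exact inv_mem hx
  · intro h
    obtain ⟨i, j, rfl⟩ := D.hgen g
    obtain ⟨⟨u, rfl⟩, v, rfl⟩ := (D.pow_mem_center_iff' hp _ _ _ hs).mp h
    exact mul_mem (Subgroup.subset_closure ⟨D.a ^ u, by rw [← pow_mul, mul_comm]⟩)
      (Subgroup.subset_closure ⟨D.b ^ v, by rw [← pow_mul, mul_comm]⟩)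

theorem card_powers (hp : p ≠ 2) (s : ℕ) (hs : s ≤ D.n) :
    Nat.card {g : G // g ^ p ^ (D.n - s) ∈ Subgroup.center G} =
      Nat.card ↥(Subgroup.center G) * p ^ (2 * (D.n - s)) := by
  set U := Subgroup.closure {x : G | ∃ y : G, y ^ p ^ s = x}
  have hU : ∀ g, g ∈ U ↔ g ^ p ^ (D.n - s) ∈ Subgroup.center G := D.mem_powers_closure_iff hp s hs
  have hc := D.card_eq U s s 0 (hs.trans D.n_le_m) (hs.trans (D.n_le_e hp)) (fun t => by
      rw [hU]
      have := D.pow_mem_center_iff' hp t 0 s hs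
      rw [pow_zero, mul_one] at this
      rw [this]; simp)
    ((hU _).mpr ((D.pow_mem_center_iff' hp 0 _ s hs).mpr ⟨dvd_zero _, dvd_rfl⟩))
    (fun t l h => ((D.pow_mem_center_iff' hp t l s hs).mp ((hU _).mp h)).2)
  rw [Nat.card_congr (Equiv.subtypeEquivRight fun g => (hU g).symm)]
  refine Nat.eq_of_mul_eq_mul_right (pow_pos (Fact.out : p.Prime).pos (s + s)) ?_
  rw [mul_assoc, ← pow_add, show 2 * (D.n - s) + (s + s) = 2 * D.n by omega, D.card_center_mul hp]
  exact hc

/-- For a non-abelian group the Frattini subgroup consists of the `g` with `g ^ p^(n-1)` central. -/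
theorem mem_frattini_iff (hp : p ≠ 2) (hn : 1 ≤ D.n) (g : G) :
    g ∈ frattini G ↔ g ^ p ^ (D.n - 1) ∈ Subgroup.center G := by
  have hp0 := (Fact.out : p.Prime)
  constructor
  · intro hg
    by_contra hgc
    obtain ⟨i, j, rfl⟩ := D.hgen g
    rw [D.pow_mem_center_iff' hp i j 1 hn, pow_one] at hgc
    haveI := D.normalA
    set U := Subgroup.closure {x : G | ∃ y : G, y ^ p ^ 1 = x}
    have hU : ∀ i j, D.a ^ i * D.b ^ j ∈ U ↔ p ∣ i ∧ p ∣ j := fun i j => by
      rw [D.mem_powers_closure_iff hp 1 hn, D.pow_mem_center_iff' hp i j 1 hn, pow_one]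
    -- a generator `y` and the subgroup of elements with one coordinate divisible by `p`
    by_cases hj : p ∣ j
    · have hi : ¬ p ∣ i := fun h => hgc ⟨h, hj⟩
      let M : Subgroup G :=
        { carrier := {x | ∃ t l, p ∣ t ∧ x = D.a ^ t * D.b ^ l}
          one_mem' := ⟨0, 0, dvd_zero _, by simp⟩
          mul_mem' := by
            rintro _ _ ⟨t, l, ht, rfl⟩ ⟨t', l', ht', rfl⟩
            exact ⟨_, _, dvd_add ht (dvd_mul_of_dvd_left ht' _), D.mul_rule _ _ _ _⟩
          inv_mem' := by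
            rintro _ ⟨t, l, ht, rfl⟩
            have h : ∀ k : ℕ, ∃ t' l', p ∣ t' ∧ (D.a ^ t * D.b ^ l) ^ k = D.a ^ t' * D.b ^ l' := fun k =>
              ⟨_, _, dvd_mul_of_dvd_left ht _, D.pow_rule _ _ _⟩
            obtain ⟨t', l', h1, h2⟩ := h (orderOf (D.a ^ t * D.b ^ l) - 1)
            refine ⟨t', l', h1, ?_⟩
            rw [← h2]
            exact inv_eq_of_mul_eq_one_right (by
              rw [← pow_succ', Nat.sub_add_cancel (orderOf_pos _), pow_orderOf_eq_one]) }
      have hMne : M ≠ ⊤ := by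
        intro h
        obtain ⟨t, l, ⟨k, rfl⟩, he⟩ := (h ▸ Subgroup.mem_top D.a : D.a ∈ M)
        -- compare with `a`: the power of `b` lies in `⟨a⟩` and is central
        have hbl : D.b ^ l ∈ Subgroup.zpowers D.a := by
          have : D.b ^ l = (D.a ^ (p * k))⁻¹ * D.a ^ 1 := by
            conv_rhs => rw [pow_one]
            rw [eq_inv_mul_iff_mul_eq]; exact he.symm
          rw [this]
          exact mul_mem (inv_mem (Subgroup.npow_mem_zpowers _ _)) (Subgroup.npow_mem_zpowers _ _)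
        obtain ⟨w, hw⟩ := mem_powers_iff_mem_zpowers.mpr hbl
        obtain ⟨w', rfl⟩ := D.dvd_of_b_pow_eq (show D.b ^ l = D.a ^ w from hw.symm)
        rw [← (show D.a ^ (p ^ D.n * w') = D.b ^ l from hw), ← pow_add] at he
        have h1 : D.a ^ 1 = D.a ^ (p * k + p ^ D.n * w') := by rw [pow_one]; exact he
        have h2 := (D.d_dvd_of_pow_eq h1).of_dvd
          (dvd_pow_self p (show D.m ≠ 0 by have := D.n_le_m; omega))
        have h3 : p ∣ p * k + p ^ D.n * w' :=
          dvd_add (dvd_mul_right _ _) (dvd_mul_of_dvd_left (dvd_pow_self p (by omega)) _)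
        exact hp0.ne_one (Nat.dvd_one.mp ((h2.dvd_iff dvd_rfl).mpr h3))
      obtain ⟨M', hM', hle⟩ := (eq_top_or_exists_le_coatom M).resolve_left hMne
      have hgM : D.a ^ i * D.b ^ j ∈ M' := frattini_le_coatom hM' hg
      have hbM : ∀ l, D.b ^ l ∈ M' := fun l => hle ⟨0, l, dvd_zero _, by simp⟩
      have haM : D.a ^ i ∈ M' := by simpa using mul_mem hgM (inv_mem (hbM j))
      have hapM : D.a ^ p ∈ M' := hle ⟨p, 0, dvd_rfl, by simp⟩
      apply hM'.1
      rw [eq_top_iff]
      intro x _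
      obtain ⟨t, l, rfl⟩ := D.hgen x
      refine mul_mem ?_ (hbM l)
      obtain ⟨α, -, hα⟩ := exists_pow_mem_iff D.isPGroup D.a M' 1 (by rw [pow_one]; exact hapM)
      have h4 := (hα i).mp haM
      rcases α with - | α
      · exact (hα t).mpr (by simp)
      · exact absurd ((dvd_pow_self p α.succ_ne_zero).trans h4) hi
    · let M : Subgroup G :=
        Subgroup.zpowers D.a ⊔ Subgroup.zpowers (D.b ^ p)
      have hMne : M ≠ ⊤ := by
        intro h
        have hb : D.b ∈ M := h ▸ Subgroup.mem_top _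
        rw [Subgroup.mem_sup_of_normal_left] at hb
        obtain ⟨y, hy, z, hz, hyz⟩ := hb
        obtain ⟨k, rfl⟩ := mem_powers_iff_mem_zpowers.mpr hz
        simp only [← pow_mul] at hyz
        have he0 : D.e ≠ 0 := by have := D.n_le_e hp; omega
        have h1 : D.b ^ (1 + (orderOf D.b - 1) * (p * k)) ∈ Subgroup.zpowers D.a := by
          have e : D.b ^ (1 + (orderOf D.b - 1) * (p * k)) = y * D.b ^ (orderOf D.b * (p * k)) := by
            have : (p * k) + (orderOf D.b - 1) * (p * k) = orderOf D.b * (p * k) := by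
              rw [add_comm, ← Nat.succ_mul, Nat.succ_eq_add_one, Nat.sub_add_cancel (orderOf_pos D.b)]
            rw [← this, pow_add, pow_add, pow_one, ← mul_assoc y, hyz]
          rw [e, pow_mul, pow_orderOf_eq_one, one_pow, mul_one]; exact hy
        have h2 := (dvd_pow_self p he0).trans ((D.hmem _).mp h1)
        have h3 : p ∣ (orderOf D.b - 1) * (p * k) := dvd_mul_of_dvd_right (dvd_mul_right _ _) _
        exact hp0.ne_one (Nat.dvd_one.mp ((Nat.dvd_add_left h3).mp h2))
      obtain ⟨M', hM', hle⟩ := (eq_top_or_exists_le_coatom M).resolve_left hMne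
      have hgM : D.a ^ i * D.b ^ j ∈ M' := frattini_le_coatom hM' hg
      have haM : ∀ t, D.a ^ t ∈ M' := fun t =>
        hle ((le_sup_left : _ ≤ M) (Subgroup.npow_mem_zpowers _ _))
      have hbpM : D.b ^ p ∈ M' := hle ((le_sup_right : _ ≤ M) (Subgroup.mem_zpowers _))
      have hbM : D.b ^ j ∈ M' := by simpa using mul_mem (inv_mem (haM i)) hgM
      apply hM'.1
      rw [eq_top_iff]
      intro x _
      obtain ⟨t, l, rfl⟩ := D.hgen x
      refine mul_mem (haM t) ?_
      obtain ⟨α, -, hα⟩ := exists_pow_mem_iff D.isPGroup D.b M' 1 (by rw [pow_one]; exact hbpM)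
      have h4 := (hα j).mp hbM
      rcases α with - | α
      · exact (hα l).mpr (by simp)
      · exact absurd ((dvd_pow_self p α.succ_ne_zero).trans h4) hj
  · intro hg
    obtain ⟨i, j, rfl⟩ := D.hgen g
    rw [D.pow_mem_center_iff' hp i j 1 hn, pow_one] at hg
    obtain ⟨⟨u, rfl⟩, v, rfl⟩ := hg
    have key : ∀ x : G, x ^ p ∈ frattini G := by
      intro x
      simp only [frattini, Order.radical, Subgroup.mem_iInf]
      intro M hM
      haveI := D.isPGroup.isNilpotent
      haveI : M.Normal := Subgroup.NormalizerCondition.normal_of_coatom M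
        Group.normalizerCondition_of_isNilpotent hM
      have hidx : M.index = p := by
        have h1 : M.index ≠ 1 := fun h => hM.1 (Subgroup.index_eq_one.mp h)
        obtain ⟨k, hk⟩ := IsPGroup.iff_card.mp (D.isPGroup.to_quotient M)
        rw [← Subgroup.index_eq_card] at hk
        obtain ⟨K, hK, hMK⟩ := Sylow.exists_subgroup_card_pow_succ (H := M) (p := p)
          (n := (Nat.card M).factorization p) (by
            obtain ⟨s, hs⟩ := IsPGroup.iff_card.mp (D.isPGroup.to_subgroup M)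
            rw [hs, hp0.factorization_pow, Finsupp.single_eq_same, ← M.index_mul_card, hk, hs,
              ← pow_add]
            exact Nat.pow_dvd_pow p (by
              rcases Nat.eq_zero_or_pos k with rfl | hk0
              · exact absurd hk (by simpa using h1)
              · omega))
          (by
            obtain ⟨s, hs⟩ := IsPGroup.iff_card.mp (D.isPGroup.to_subgroup M)
            rw [hs, hp0.factorization_pow, Finsupp.single_eq_same])
        obtain ⟨s, hs⟩ := IsPGroup.iff_card.mp (D.isPGroup.to_subgroup M)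
        rw [hs, hp0.factorization_pow, Finsupp.single_eq_same] at hK
        have hKtop : K = ⊤ := hM.2 K (lt_of_le_of_ne hMK fun h => by
          rw [← h, hs] at hK
          exact absurd (Nat.pow_right_injective hp0.two_le hK) (by omega))
        rw [hKtop, Subgroup.card_top, ← M.index_mul_card, hs, pow_succ] at hK
        exact Nat.eq_of_mul_eq_mul_right (pow_pos hp0.pos s) (hK.trans (mul_comm _ _))
      rw [← QuotientGroup.eq_one_iff, QuotientGroup.mk_pow, ← hidx, Subgroup.index_eq_card]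
      exact pow_card_eq_one'
    rw [mul_comm p u, mul_comm p v, pow_mul, pow_mul]
    exact mul_mem (key _) (key _)

/-- A factorization into two cyclic subgroups meeting trivially. -/
theorem exists_factorization (hp : p ≠ 2) :
    ∃ A B : Subgroup G, IsCyclic ↥A ∧ IsCyclic ↥B ∧ A ⊓ B = ⊥ ∧
      Nat.card ↥A * Nat.card ↥B = Nat.card G := by
  have hp0 := (Fact.out : p.Prime)
  obtain ⟨c, hc⟩ := mem_powers_iff_mem_zpowers.mpr ((D.hmem (p ^ D.e)).mpr dvd_rfl)
  replace hc : D.a ^ c = D.b ^ p ^ D.e := hc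
  obtain ⟨γ, hγm, hγ⟩ := exists_pow_mem_iff D.isPGroup D.a (Subgroup.zpowers (D.a ^ c)) D.m
    (by rw [← D.hm, pow_orderOf_eq_one]; exact one_mem _)
  have hγc : p ^ γ ∣ c := (hγ c).mp (Subgroup.mem_zpowers _)
  have hneg : ∀ u, u ≡ (p ^ D.m - 1) * c [MOD p ^ D.m] → D.a ^ u * D.a ^ c = 1 := by
    intro u hu
    rw [← pow_add, ← orderOf_dvd_iff_pow_eq_one, D.hm, ← Nat.modEq_zero_iff_dvd]
    have h2 := hu.add_right c
    rw [show (p ^ D.m - 1) * c + c = p ^ D.m * c by
      rw [← Nat.succ_mul, Nat.succ_eq_add_one, Nat.sub_add_cancel (pow_pos hp0.pos _)]] at h2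
    exact h2.trans (Nat.modEq_zero_iff_dvd.mpr (dvd_mul_right _ _))
  by_cases hγe : D.e ≤ γ
  · obtain ⟨u, hu⟩ := exists_mul_S_modEq hp D.r_modEq D.m D.e ((p ^ D.m - 1) * c)
      (dvd_mul_of_dvd_right ((Nat.pow_dvd_pow p hγe).trans hγc) _)
    set y := D.a ^ u * D.b ^ 1 with hy
    have hypow : y ^ p ^ D.e = 1 := by
      rw [hy, D.pow_rule, pow_one, one_mul, ← hc]; exact hneg _ hu
    have hkey : ∀ t : ℕ, y ^ t ∈ Subgroup.zpowers D.a → p ^ D.e ∣ t := by
      intro t ht
      rw [hy, D.pow_rule, one_mul] at ht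
      refine (D.hmem t).mp ?_
      have := mul_mem (inv_mem (Subgroup.npow_mem_zpowers D.a (u * S (D.r ^ 1) t))) ht
      rwa [inv_mul_cancel_left] at this
    refine ⟨Subgroup.zpowers D.a, Subgroup.zpowers y, inferInstance, inferInstance, ?_, ?_⟩
    · rw [eq_bot_iff]
      rintro x ⟨hxA, hxB⟩
      obtain ⟨t, rfl⟩ := mem_powers_iff_mem_zpowers.mpr hxB
      obtain ⟨k, rfl⟩ := hkey t hxA
      change y ^ (p ^ D.e * k) ∈ (⊥ : Subgroup G)
      rw [pow_mul, hypow, one_pow]
      exact one_mem _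
    · have : orderOf y = p ^ D.e := Nat.dvd_antisymm (orderOf_dvd_of_pow_eq_one hypow)
        (hkey _ (by rw [pow_orderOf_eq_one]; exact one_mem _))
      rw [Nat.card_zpowers, Nat.card_zpowers, this, D.hm, D.hcard]
  · set f := D.e - γ
    obtain ⟨u, hu, hup⟩ : ∃ u, u * S (D.r ^ p ^ f) (p ^ γ) ≡ (p ^ D.m - 1) * c [MOD p ^ D.m] ∧
        ¬ p ∣ u := by
      have hr' : D.r ^ p ^ f ≡ 1 [MOD p] := by simpa using D.r_modEq.pow (p ^ f)
      rcases hγm.eq_or_lt with rfl | hlt
      · refine ⟨1, ?_, fun h => hp0.ne_one (Nat.dvd_one.mp h)⟩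
        exact (Nat.modEq_zero_iff_dvd.mpr ((dvd_mul_S hp hr' _ 1 _).mpr (by simp))).trans
          (Nat.modEq_zero_iff_dvd.mpr (dvd_mul_of_dvd_right hγc _)).symm
      · obtain ⟨u, hu⟩ := exists_mul_S_modEq hp hr' D.m γ ((p ^ D.m - 1) * c)
          (dvd_mul_of_dvd_right hγc _)
        refine ⟨u, hu, fun hpu => ?_⟩
        have h1 : p ^ (γ + 1) ∣ u * S (D.r ^ p ^ f) (p ^ γ) := by
          rw [dvd_mul_S hp hr', pow_succ']
          exact Nat.mul_dvd_mul_right hpu _
        have h2 : p ^ (γ + 1) ∣ (p ^ D.m - 1) * c :=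
          (hu.dvd_iff (Nat.pow_dvd_pow p hlt)).mp h1
        have h3 : p ^ (γ + 1) ∣ c := by
          have h4 := dvd_mul_of_dvd_left (Nat.pow_dvd_pow p hlt) c
          have h5 : (p ^ D.m - 1) * c + c = p ^ D.m * c := by
            rw [← Nat.succ_mul, Nat.succ_eq_add_one, Nat.sub_add_cancel (pow_pos hp0.pos _)]
          exact (Nat.dvd_add_right h2).mp (h5 ▸ h4)
        obtain ⟨w, hw⟩ := h3
        obtain ⟨k, hk⟩ := mem_powers_iff_mem_zpowers.mpr ((hγ (p ^ γ)).mpr dvd_rfl)
        replace hk : (D.a ^ c) ^ k = D.a ^ p ^ γ := hk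
        rw [← pow_mul] at hk
        have h6 := ((D.d_dvd_of_pow_eq hk).dvd_iff (Nat.pow_dvd_pow p hlt)).mp
          (hw ▸ dvd_mul_of_dvd_left (dvd_mul_right _ w) k)
        have := (Nat.pow_dvd_pow_iff_le_right hp0.one_lt).mp h6
        omega
    set x := D.a ^ u * D.b ^ p ^ f with hx
    have hfe : p ^ f * p ^ γ = p ^ D.e := by rw [← pow_add]; congr 1; omega
    have hxpow : x ^ p ^ γ = 1 := by
      rw [hx, D.pow_rule, hfe, ← hc]; exact hneg _ hu
    have hkey : ∀ t : ℕ, x ^ t ∈ Subgroup.zpowers D.b → p ^ γ ∣ t := by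
      intro t ht
      rw [hx, D.pow_rule] at ht
      have h1 : D.a ^ (u * S (D.r ^ p ^ f) t) ∈ Subgroup.zpowers D.b := by
        have := mul_mem ht (inv_mem (Subgroup.npow_mem_zpowers D.b (p ^ f * t)))
        rwa [mul_inv_cancel_right] at this
      obtain ⟨l, hl⟩ := mem_powers_iff_mem_zpowers.mpr h1
      replace hl : D.b ^ l = D.a ^ (u * S (D.r ^ p ^ f) t) := hl
      obtain ⟨k, rfl⟩ := (D.hmem l).mp (hl ▸ Subgroup.npow_mem_zpowers _ _)
      rw [pow_mul, ← hc] at hl
      have h2 := (hγ _).mp (hl ▸ Subgroup.npow_mem_zpowers _ _)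
      rw [dvd_mul_S hp (by simpa using D.r_modEq.pow (p ^ f))] at h2
      exact ((hp0.coprime_iff_not_dvd.mpr hup).pow_left γ).dvd_of_dvd_mul_left h2
    refine ⟨Subgroup.zpowers x, Subgroup.zpowers D.b, inferInstance, inferInstance, ?_, ?_⟩
    · rw [eq_bot_iff]
      rintro z ⟨hzA, hzB⟩
      obtain ⟨t, rfl⟩ := mem_powers_iff_mem_zpowers.mpr hzA
      obtain ⟨k, rfl⟩ := hkey t hzB
      change x ^ (p ^ γ * k) ∈ (⊥ : Subgroup G)
      rw [pow_mul, hxpow, one_pow]
      exact one_mem _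
    · have h1 : orderOf x = p ^ γ := Nat.dvd_antisymm (orderOf_dvd_of_pow_eq_one hxpow)
        (hkey _ (by rw [pow_orderOf_eq_one]; exact one_mem _))
      have h2 : p ^ D.e ∣ orderOf D.b := (D.hmem _).mp (by rw [pow_orderOf_eq_one]; exact one_mem _)
      have h3 : orderOf (D.a ^ c) = orderOf D.b / p ^ D.e := by
        rw [hc, orderOf_pow' _ (pow_ne_zero _ hp0.ne_zero), Nat.gcd_eq_right h2]
      have h4 : Subgroup.zpowers (D.a ^ c) = Subgroup.zpowers (D.a ^ p ^ γ) := by
        apply le_antisymm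
        · rw [Subgroup.zpowers_le]
          obtain ⟨k, hk⟩ := hγc
          exact ⟨(k : ℤ), by simp [hk, pow_mul]⟩
        · exact Subgroup.zpowers_le.mpr ((hγ _).mpr dvd_rfl)
      have h5 : orderOf (D.a ^ c) * p ^ γ = p ^ D.m := by
        rw [← Nat.card_zpowers, h4, Nat.card_zpowers]
        exact orderOf_pow_mul _ _ _ D.hm hγm
      rw [Nat.card_zpowers, Nat.card_zpowers, h1, D.hcard, ← h5, h3, mul_comm _ (p ^ γ), mul_assoc,
        Nat.div_mul_cancel h2]

end CfsgLib.Metacyclic76.Data
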