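import Cfsg.Agent.Lib.Metacyclic76.Data
import Mathlib.GroupTheory.Subgroup.Centralizer

set_option autoImplicit false

/-! Subgroups of a metacyclic `p`-group: orders, commutativity, centralizers. -/

namespace CfsgLib.Metacyclic76.Data

variable {G : Type*} [Group G] [Finite G] {p : ℕ} [Fact p.Prime] (D : Data G p)

include D in
theorem isPGroup : IsPGroup p G := IsPGroup.of_card (n := D.m + D.e) (by rw [D.hcard, pow_add])

theorem dvd_iff_of_le {α α' m : ℕ} (_hα : α ≤ m) (h : ∀ t : ℕ, p ^ α ∣ t ↔ p ^ α' ∣ t) : α = α' :=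
  le_antisymm ((Nat.pow_dvd_pow_iff_le_right (Fact.out : p.Prime).one_lt).mp ((h _).mpr dvd_rfl))
    ((Nat.pow_dvd_pow_iff_le_right (Fact.out : p.Prime).one_lt).mp ((h _).mp dvd_rfl))

include D

/-- Parameters of a subgroup `L`. -/
theorem exists_params (L : Subgroup G) : ∃ α β i : ℕ, α ≤ D.m ∧ β ≤ D.e ∧
    (∀ t : ℕ, D.a ^ t ∈ L ↔ p ^ α ∣ t) ∧ D.a ^ i * D.b ^ p ^ β ∈ L ∧
    (∀ t l : ℕ, D.a ^ t * D.b ^ l ∈ L → p ^ β ∣ l) := by
  haveI := D.normalA
  obtain ⟨α, hα, hαs⟩ := exists_pow_mem_iff D.isPGroup D.a L D.m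
    (by rw [← D.hm, pow_orderOf_eq_one]; exact one_mem L)
  obtain ⟨β, hβ, hβs⟩ := exists_pow_mem_iff D.isPGroup D.b (L ⊔ Subgroup.zpowers D.a) D.e
    ((le_sup_right : _ ≤ L ⊔ Subgroup.zpowers D.a) ((D.hmem _).mpr dvd_rfl))
  have h := (hβs (p ^ β)).mpr dvd_rfl
  rw [sup_comm, Subgroup.mem_sup_of_normal_left] at h
  obtain ⟨y, hy, z, hz, hyz⟩ := h
  obtain ⟨i, hi⟩ := mem_powers_iff_mem_zpowers.mpr (inv_mem hy)
  refine ⟨α, β, i, hα, hβ, hαs, ?_, fun t l htl => ?_⟩
  · rw [show D.a ^ i = y⁻¹ from hi, ← hyz, inv_mul_cancel_left]; exact hz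
  · rw [← hβs]
    have : D.b ^ l = (D.a ^ t)⁻¹ * (D.a ^ t * D.b ^ l) := by group
    rw [this]
    exact mul_mem ((le_sup_right : _ ≤ L ⊔ Subgroup.zpowers D.a)
      (inv_mem (Subgroup.npow_mem_zpowers _ _))) ((le_sup_left : L ≤ L ⊔ Subgroup.zpowers D.a) htl)

omit [Fact p.Prime] in
theorem le_closure (L : Subgroup G) (α β i : ℕ) (hα : ∀ t : ℕ, D.a ^ t ∈ L ↔ p ^ α ∣ t)
    (hg : D.a ^ i * D.b ^ p ^ β ∈ L) (hβ : ∀ t l : ℕ, D.a ^ t * D.b ^ l ∈ L → p ^ β ∣ l) :
    L ≤ Subgroup.closure {D.a ^ p ^ α, D.a ^ i * D.b ^ p ^ β} := by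
  intro x hx
  obtain ⟨t, l, rfl⟩ := D.hgen x
  obtain ⟨q, rfl⟩ := hβ t l hx
  set C := Subgroup.closure {D.a ^ p ^ α, D.a ^ i * D.b ^ p ^ β}
  have hgC : D.a ^ i * D.b ^ p ^ β ∈ C := Subgroup.subset_closure (by simp)
  have haC : D.a ^ p ^ α ∈ C := Subgroup.subset_closure (by simp)
  -- a power of `a` correcting the first coordinate
  set g := D.a ^ i * D.b ^ p ^ β
  have hgq : g ^ q = D.a ^ (i * S (D.r ^ p ^ β) q) * D.b ^ (p ^ β * q) := D.pow_rule _ _ _
  set w := i * S (D.r ^ p ^ β) q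
  have e : D.a ^ t * D.b ^ (p ^ β * q) = D.a ^ (t + (orderOf D.a - 1) * w) * g ^ q := by
    rw [hgq, ← mul_assoc, ← pow_add]
    congr 1
    rw [show t + (orderOf D.a - 1) * w + w = t + orderOf D.a * w by
        rw [add_assoc, ← Nat.succ_mul, Nat.succ_eq_add_one, Nat.sub_add_cancel (orderOf_pos D.a)],
      pow_add, pow_mul, pow_orderOf_eq_one, one_pow, mul_one]
  rw [e] at hx ⊢
  refine mul_mem ?_ (C.pow_mem hgC q)
  obtain ⟨k, hk⟩ := (hα _).mp (by simpa using mul_mem hx (inv_mem (L.pow_mem hg q)))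
  rw [hk, pow_mul]
  exact C.pow_mem haC k

theorem card_eq (L : Subgroup G) (α β i : ℕ) (hαm : α ≤ D.m) (hβe : β ≤ D.e)
    (hα : ∀ t : ℕ, D.a ^ t ∈ L ↔ p ^ α ∣ t)
    (hg : D.a ^ i * D.b ^ p ^ β ∈ L) (hβ : ∀ t l : ℕ, D.a ^ t * D.b ^ l ∈ L → p ^ β ∣ l) :
    Nat.card L * p ^ (α + β) = Nat.card G := by
  haveI := D.normalA
  set q := QuotientGroup.mk' (Subgroup.zpowers D.a)
  set f := q.comp L.subtype with hf
  have hfr : f.range = Subgroup.zpowers (q (D.b ^ p ^ β)) := by
    apply le_antisymm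
    · rintro _ ⟨⟨x, hx⟩, rfl⟩
      obtain ⟨t, l, rfl⟩ := D.hgen x
      obtain ⟨k, rfl⟩ := hβ t l hx
      have : q (D.a ^ t) = 1 := (QuotientGroup.eq_one_iff _).mpr (Subgroup.npow_mem_zpowers _ _)
      change q (D.a ^ t * D.b ^ (p ^ β * k)) ∈ _
      rw [map_mul, this, one_mul, pow_mul, map_pow]
      exact Subgroup.npow_mem_zpowers _ _
    · rw [Subgroup.zpowers_le]
      refine ⟨⟨_, hg⟩, ?_⟩
      have : q (D.a ^ i) = 1 := (QuotientGroup.eq_one_iff _).mpr (Subgroup.npow_mem_zpowers _ _)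
      change q (D.a ^ i * D.b ^ p ^ β) = _
      rw [map_mul, this, one_mul]
  have hob : orderOf (q D.b) = p ^ D.e := by
    apply Nat.dvd_antisymm
    · rw [orderOf_dvd_iff_pow_eq_one, ← map_pow]
      exact (QuotientGroup.eq_one_iff _).mpr ((D.hmem _).mpr dvd_rfl)
    · rw [← D.hmem, ← QuotientGroup.eq_one_iff]
      change q _ = 1
      rw [map_pow, pow_orderOf_eq_one]
  have hr : Nat.card f.range * p ^ β = p ^ D.e := by
    rw [hfr, Nat.card_zpowers, map_pow]
    exact orderOf_pow_mul _ _ _ hob hβe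
  have hker : f.ker.map L.subtype = Subgroup.zpowers (D.a ^ p ^ α) := by
    apply le_antisymm
    · rintro _ ⟨⟨x, hx⟩, hk, rfl⟩
      obtain ⟨t, rfl⟩ := mem_powers_iff_mem_zpowers.mpr
        ((QuotientGroup.eq_one_iff x).mp (MonoidHom.mem_ker.mp hk))
      obtain ⟨k, rfl⟩ := (hα t).mp hx
      change D.a ^ (p ^ α * k) ∈ _
      rw [pow_mul]
      exact Subgroup.npow_mem_zpowers _ _
    · rw [Subgroup.zpowers_le]
      exact ⟨⟨_, (hα _).mpr dvd_rfl⟩, MonoidHom.mem_ker.mpr
        ((QuotientGroup.eq_one_iff _).mpr (Subgroup.npow_mem_zpowers _ _)), rfl⟩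
  have hk : Nat.card f.ker * p ^ α = p ^ D.m := by
    rw [← Subgroup.card_map_of_injective L.subtype_injective (K := f.ker), hker, Nat.card_zpowers]
    exact orderOf_pow_mul _ _ _ D.hm hαm
  rw [← f.ker.index_mul_card, Subgroup.index_ker, D.hcard, ← hk, ← hr, pow_add]
  ring

theorem isMulCommutative_iff (hp : p ≠ 2) (L : Subgroup G) (α β i : ℕ)
    (hα : ∀ t : ℕ, D.a ^ t ∈ L ↔ p ^ α ∣ t)
    (hg : D.a ^ i * D.b ^ p ^ β ∈ L) (hβ : ∀ t l : ℕ, D.a ^ t * D.b ^ l ∈ L → p ^ β ∣ l) :
    IsMulCommutative L ↔ D.n ≤ α + β := by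
  have key : Commute (D.a ^ p ^ α) (D.a ^ i * D.b ^ p ^ β) ↔ D.n ≤ α + β := by
    rw [D.commute_a_pow_iff, D.hS hp, ← pow_add]
    exact Nat.pow_dvd_pow_iff_le_right (Fact.out : p.Prime).one_lt
  rw [← key]
  constructor
  · intro h
    exact congrArg Subtype.val (h.is_comm.comm ⟨_, (hα _).mpr dvd_rfl⟩ ⟨_, hg⟩)
  · intro h
    set T : Set G := {D.a ^ p ^ α, D.a ^ i * D.b ^ p ^ β}
    have h1 : Subgroup.closure T ≤ Subgroup.centralizer T := by
      rw [Subgroup.closure_le]
      intro x hx y hy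
      simp only [T, Set.mem_insert_iff, Set.mem_singleton_iff] at hx hy
      rcases hx with rfl | rfl <;> rcases hy with rfl | rfl <;>
        first | rfl | exact h.eq | exact h.eq.symm
    have h2 : L ≤ Subgroup.centralizer (L : Set G) := by
      have hle := D.le_closure L α β i hα hg hβ
      refine (hle.trans ?_)
      have h3 : Subgroup.closure T ≤ Subgroup.centralizer (Subgroup.closure T : Set G) := by
        rw [Subgroup.closure_le]
        intro y hy z hz
        exact (Subgroup.mem_centralizer_iff.mp (h1 hz) y hy).symm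
      exact h3.trans (Subgroup.centralizer_le hle)
    exact ⟨⟨fun x y => Subtype.ext (Subgroup.mem_centralizer_iff.mp (h2 y.2) x x.2)⟩⟩

/-- `L` is commutative exactly when its order is at most `|G : G'|`. -/
theorem isMulCommutative_iff_card (hp : p ≠ 2) (L : Subgroup G) :
    IsMulCommutative L ↔ Nat.card L * p ^ D.n ≤ Nat.card G := by
  obtain ⟨α, β, i, hαm, hβe, hα, hg, hβ⟩ := D.exists_params L
  rw [D.isMulCommutative_iff hp L α β i hα hg hβ, ← D.card_eq L α β i hαm hβe hα hg hβ,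
    Nat.mul_le_mul_left_iff Nat.card_pos, Nat.pow_le_pow_iff_right (Fact.out : p.Prime).one_lt]

/-- For a subgroup containing the centre, `|R| · |C_G(R)| = |G| · |Z(G)|`, and the parameters of
`C_G(R)` are complementary to those of `R`. -/
theorem centralizer_params (hp : p ≠ 2) (R : Subgroup G) (hZ : Subgroup.center G ≤ R) (α β i : ℕ)
    (hα : ∀ t : ℕ, D.a ^ t ∈ R ↔ p ^ α ∣ t)
    (hg : D.a ^ i * D.b ^ p ^ β ∈ R) (hβ : ∀ t l : ℕ, D.a ^ t * D.b ^ l ∈ R → p ^ β ∣ l) :
    α ≤ D.n ∧ β ≤ D.n ∧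
      Nat.card ↥(Subgroup.centralizer (R : Set G)) * p ^ ((D.n - β) + (D.n - α)) = Nat.card G := by
  have hone := (Fact.out : p.Prime).one_lt
  have hαn : α ≤ D.n := by
    refine (Nat.pow_dvd_pow_iff_le_right hone).mp ((hα _).mp (hZ ?_))
    have := (D.mem_center_iff hp (p ^ D.n) 0).mpr ⟨dvd_rfl, dvd_zero _⟩
    simpa using this
  have hβn : β ≤ D.n := (Nat.pow_dvd_pow_iff_le_right hone).mp
    (hβ 0 _ (hZ ((D.mem_center_iff hp 0 (p ^ D.n)).mpr ⟨dvd_zero _, dvd_rfl⟩)))
  -- the constraint on the first coordinate of the generator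
  have hi : p ^ α ∣ i * p ^ (D.n - β) := by
    have h := R.pow_mem hg (p ^ (D.n - β))
    have hb : D.b ^ p ^ D.n ∈ R := hZ (by
      simpa using (D.mem_center_iff hp 0 (p ^ D.n)).mpr ⟨dvd_zero _, dvd_rfl⟩)
    rw [D.pow_rule, ← pow_add, Nat.add_sub_cancel' hβn] at h
    have := (hα _).mp (by simpa using mul_mem h (inv_mem hb))
    rwa [dvd_mul_S hp (by simpa using D.r_modEq.pow (p ^ β))] at this
  have hi' : p ^ β ∣ i * p ^ (D.n - α) := by
    obtain ⟨k, hk⟩ := hi
    refine ⟨k, Nat.eq_of_mul_eq_mul_right (pow_pos (Fact.out : p.Prime).pos (D.n - β)) ?_⟩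
    calc i * p ^ (D.n - α) * p ^ (D.n - β) = i * p ^ (D.n - β) * p ^ (D.n - α) := by ring
      _ = p ^ α * p ^ (D.n - α) * k := by rw [hk]; ring
      _ = p ^ β * p ^ (D.n - β) * k := by
        rw [← pow_add, ← pow_add, Nat.add_sub_cancel' hαn, Nat.add_sub_cancel' hβn]
      _ = _ := by ring
  set C := Subgroup.centralizer (R : Set G)
  -- membership in the centralizer is commuting with the two generators
  have hmemC : ∀ t l : ℕ, D.a ^ t * D.b ^ l ∈ C ↔
      p ^ D.n ∣ p ^ α * l ∧ i * S D.r l ≡ t * S D.r (p ^ β) [MOD p ^ D.n] := by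
    intro t l
    rw [← D.hS hp D.n (p ^ α) l, ← D.commute_a_pow_iff (p ^ α) t l, ← D.commute_iff t l i (p ^ β)]
    constructor
    · intro h
      exact ⟨Subgroup.mem_centralizer_iff.mp h _ ((hα _).mpr dvd_rfl),
        (Subgroup.mem_centralizer_iff.mp h _ hg).symm⟩
    · rintro ⟨h1, h2⟩
      have h4 : Subgroup.closure {D.a ^ p ^ α, D.a ^ i * D.b ^ p ^ β} ≤
          Subgroup.centralizer {D.a ^ t * D.b ^ l} := by
        rw [Subgroup.closure_le]
        intro x hx y hy
        simp only [Set.mem_insert_iff, Set.mem_singleton_iff] at hx hy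
        subst hy
        rcases hx with rfl | rfl
        · exact h1.eq.symm
        · exact h2.eq
      rw [Subgroup.mem_centralizer_iff]
      intro x hx
      exact (Subgroup.mem_centralizer_iff.mp (h4 (D.le_closure R α β i hα hg hβ hx)) _ rfl).symm
  obtain ⟨α', β', i', hαm', hβe', hα', hg', hβ'⟩ := D.exists_params C
  have hαeq : α' = D.n - β := by
    apply dvd_iff_of_le (p := p) hαm'
    intro t
    rw [← hα']
    have hmt := hmemC t 0
    rw [pow_zero, mul_one] at hmt
    rw [hmt, S_zero, mul_zero, mul_zero]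
    have h2 : p ^ D.n ∣ t * S D.r (p ^ β) ↔ p ^ (D.n - β) ∣ t := by
      rw [D.hS hp]
      conv_lhs => rw [← Nat.sub_add_cancel hβn, pow_add]
      exact Nat.mul_dvd_mul_iff_right (pow_pos (Fact.out : p.Prime).pos β)
    rw [← h2, ← Nat.modEq_zero_iff_dvd (a := t * S D.r (p ^ β))]
    exact ⟨fun h => h.2.symm, fun h => ⟨dvd_zero _, h.symm⟩⟩
  have hβeq : β' = D.n - α := by
    apply le_antisymm
    · have hz : p ^ β ∣ i * S D.r (p ^ (D.n - α)) := (D.hS hp _ _ _).mpr hi'
      obtain ⟨t, ht⟩ := exists_mul_S_modEq hp D.r_modEq D.n β _ hz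
      refine (Nat.pow_dvd_pow_iff_le_right hone).mp (hβ' t _ ((hmemC t _).mpr ⟨?_, ht.symm⟩))
      rw [← pow_add, Nat.add_sub_cancel' hαn]
    · have h := ((hmemC _ _).mp hg').1
      rw [← pow_add, Nat.pow_dvd_pow_iff_le_right hone] at h
      omega
  refine ⟨hαn, hβn, ?_⟩
  rw [← D.card_eq C α' β' i' hαm' hβe' hα' hg' hβ', hαeq, hβeq]

theorem card_center_mul (hp : p ≠ 2) : Nat.card ↥(Subgroup.center G) * p ^ (2 * D.n) = Nat.card G := by
  obtain ⟨α, β, i, hαm, hβe, hα, hg, hβ⟩ := D.exists_params (⊤ : Subgroup G)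
  obtain ⟨-, -, h⟩ := D.centralizer_params hp ⊤ le_top α β i hα hg hβ
  have h1 : α = 0 := by simpa using (dvd_iff_of_le (p := p) hαm (α' := 0) (fun t => by simp [← hα]))
  have h2 : β = 0 := by
    have := hβ 0 1 (Subgroup.mem_top _)
    rcases β with - | β
    · rfl
    · exact absurd (Nat.dvd_one.mp ((dvd_pow_self p β.succ_ne_zero).trans this))
        (Fact.out : p.Prime).ne_one
  rw [Subgroup.coe_top, Subgroup.centralizer_univ, h1, h2] at h
  simpa [two_mul] using h

/-- `|R| · |C_G(R)| = |G| · |Z(G)|` for subgroups containing the centre. -/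
theorem card_mul_card_centralizer (hp : p ≠ 2) (R : Subgroup G) (hZ : Subgroup.center G ≤ R) :
    Nat.card R * Nat.card ↥(Subgroup.centralizer (R : Set G)) =
      Nat.card G * Nat.card ↥(Subgroup.center G) := by
  obtain ⟨α, β, i, hαm, hβe, hα, hg, hβ⟩ := D.exists_params R
  obtain ⟨hαn, hβn, h⟩ := D.centralizer_params hp R hZ α β i hα hg hβ
  refine Nat.eq_of_mul_eq_mul_right (pow_pos (Fact.out : p.Prime).pos (2 * D.n)) ?_
  rw [mul_assoc (Nat.card G), D.card_center_mul hp]
  conv_rhs => rw (occs := .pos [1]) [← D.card_eq R α β i hαm hβe hα hg hβ]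
  conv_rhs => arg 2; rw [← h]
  rw [show 2 * D.n = (α + β) + ((D.n - β) + (D.n - α)) by omega, pow_add]
  ring

omit D in
theorem sup_center_centralizer (R : Subgroup G) :
    Subgroup.centralizer ((R ⊔ Subgroup.center G : Subgroup G) : Set G) =
      Subgroup.centralizer (R : Set G) := by
  refine le_antisymm (Subgroup.centralizer_le (show R ≤ R ⊔ Subgroup.center G from le_sup_left)) ?_
  rw [Subgroup.le_centralizer_iff, sup_le_iff]
  exact ⟨Subgroup.le_centralizer_iff.mp le_rfl, Subgroup.center_le_centralizer _⟩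

/-- The centralizer product is maximal exactly on the subgroups containing the centre. -/
theorem card_mul_card_centralizer_le (hp : p ≠ 2) (R : Subgroup G) :
    Nat.card R * Nat.card ↥(Subgroup.centralizer (R : Set G)) ≤
        Nat.card G * Nat.card ↥(Subgroup.center G) ∧
      (Nat.card R * Nat.card ↥(Subgroup.centralizer (R : Set G)) =
          Nat.card G * Nat.card ↥(Subgroup.center G) ↔ Subgroup.center G ≤ R) := by
  have h := D.card_mul_card_centralizer hp (R ⊔ Subgroup.center G) le_sup_right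
  rw [sup_center_centralizer] at h
  rw [← h]
  refine ⟨Nat.mul_le_mul_right _ (Subgroup.card_le_of_le le_sup_left), fun e => ?_, fun hZ => ?_⟩
  · have := Subgroup.eq_of_le_of_card_ge (le_sup_left : R ≤ R ⊔ Subgroup.center G)
      (Nat.eq_of_mul_eq_mul_right Nat.card_pos e).ge
    exact le_sup_right.trans this.ge
  · rw [sup_eq_left.mpr hZ]

/-- `|G : C_G(g)|` is the order of `g` modulo the centre. -/
theorem index_centralizer (hp : p ≠ 2) (g : G) :
    (Subgroup.centralizer ({g} : Set G)).index = orderOf (g : G ⧸ Subgroup.center G) := by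
  set R := Subgroup.zpowers g ⊔ Subgroup.center G
  have hR : Nat.card R = orderOf (g : G ⧸ Subgroup.center G) * Nat.card ↥(Subgroup.center G) := by
    set q := QuotientGroup.mk' (Subgroup.center G)
    have hf : (q.comp R.subtype).range = Subgroup.zpowers (q g) := by
      rw [MonoidHom.range_comp, Subgroup.range_subtype, Subgroup.map_sup, MonoidHom.map_zpowers,
        sup_eq_left]
      rintro _ ⟨z, hz, rfl⟩
      rw [show q z = 1 from (QuotientGroup.eq_one_iff z).mpr hz]
      exact one_mem _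
    have hk : (q.comp R.subtype).ker = (Subgroup.center G).subgroupOf R := by
      rw [← MonoidHom.comap_ker, QuotientGroup.ker_mk']
      rfl
    rw [← (q.comp R.subtype).ker.index_mul_card, Subgroup.index_ker, hf, Nat.card_zpowers, hk,
      Nat.card_congr (Subgroup.subgroupOfEquivOfLe le_sup_right).toEquiv]
    rfl
  have h := D.card_mul_card_centralizer hp R le_sup_right
  rw [sup_center_centralizer, Subgroup.zpowers_eq_closure, Subgroup.centralizer_closure, hR,
    ← (Subgroup.centralizer ({g} : Set G)).index_mul_card] at h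
  refine Nat.eq_of_mul_eq_mul_right
    (Nat.mul_pos (Nat.card_pos (α := ↥(Subgroup.center G)))
      (Nat.card_pos (α := ↥(Subgroup.centralizer ({g} : Set G))))) ?_
  linarith [h]

/-- The centrally large product, for a subgroup `R`. -/
theorem card_mul_card_center_le (hp : p ≠ 2) (R : Subgroup G) :
    Nat.card R * Nat.card ↥(Subgroup.center R) * p ^ (2 * D.n) ≤ Nat.card G ^ 2 ∧
      (Nat.card R * Nat.card ↥(Subgroup.center R) * p ^ (2 * D.n) = Nat.card G ^ 2 ↔
        ¬ IsMulCommutative R ∨ Nat.card R * p ^ D.n = Nat.card G) := by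
  by_cases hc : IsMulCommutative R
  · have h : Nat.card ↥(Subgroup.center R) = Nat.card R := by
      rw [show Subgroup.center R = ⊤ from top_unique fun x _ =>
        Subgroup.mem_center_iff.mpr fun y => hc.is_comm.comm y x, Subgroup.card_top]
    have hle := (D.isMulCommutative_iff_card hp R).mp hc
    rw [h, show Nat.card R * Nat.card R * p ^ (2 * D.n) = (Nat.card R * p ^ D.n) ^ 2 by ring,
      Nat.pow_le_pow_iff_left two_ne_zero, Nat.pow_left_injective two_ne_zero |>.eq_iff]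
    simp [hc, hle]
  · obtain ⟨α, β, i, hαm, hβe, hα, hg, hβ⟩ := D.exists_params R
    have hd : α + β < D.n := not_le.mp fun h => hc ((D.isMulCommutative_iff hp R α β i hα hg hβ).mpr h)
    set K := (Subgroup.center R).map R.subtype
    obtain ⟨α', β', i', hαm', hβe', hα', hg', hβ'⟩ := D.exists_params K
    have hKmem : ∀ x : G, x ∈ K ↔ x ∈ R ∧
        Commute (D.a ^ p ^ α) x ∧ Commute (D.a ^ i * D.b ^ p ^ β) x := by
      intro x
      constructor
      · rintro ⟨z, hz, rfl⟩
        exact ⟨z.2, congrArg Subtype.val (Subgroup.mem_center_iff.mp hz ⟨_, (hα _).mpr dvd_rfl⟩),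
          congrArg Subtype.val (Subgroup.mem_center_iff.mp hz ⟨_, hg⟩)⟩
      · rintro ⟨hx, h1, h2⟩
        refine ⟨⟨x, hx⟩, Subgroup.mem_center_iff.mpr fun y => Subtype.ext ?_, rfl⟩
        have h4 : Subgroup.closure {D.a ^ p ^ α, D.a ^ i * D.b ^ p ^ β} ≤
            Subgroup.centralizer {x} := by
          rw [Subgroup.closure_le]
          intro z hz w hw
          simp only [Set.mem_insert_iff, Set.mem_singleton_iff] at hz hw
          subst hw
          rcases hz with rfl | rfl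
          · exact h1.eq.symm
          · exact h2.eq.symm
        exact (Subgroup.mem_centralizer_iff.mp (h4 (D.le_closure R α β i hα hg hβ y.2)) _ rfl).symm
    have hone := (Fact.out : p.Prime).one_lt
    have hαeq : α' = D.n - β := by
      apply dvd_iff_of_le (p := p) hαm'
      intro t
      rw [← hα', hKmem]
      have h2 : Commute (D.a ^ i * D.b ^ p ^ β) (D.a ^ t) ↔ p ^ (D.n - β) ∣ t := by
        rw [commute_iff_eq, eq_comm, ← commute_iff_eq, D.commute_a_pow_iff, D.hS hp]
        conv_lhs => rw [← Nat.sub_add_cancel (show β ≤ D.n by omega), pow_add]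
        exact Nat.mul_dvd_mul_iff_right (pow_pos (Fact.out : p.Prime).pos β)
      rw [h2, hα]
      exact ⟨fun h => h.2.2, fun h => ⟨(Nat.pow_dvd_pow p (by omega)).trans h,
        Commute.pow_pow_self _ _ _, h⟩⟩
    have hβeq : β' = D.n - α := by
      apply le_antisymm
      · refine (Nat.pow_dvd_pow_iff_le_right hone).mp ?_
        have hx := D.pow_rule i (p ^ β) (p ^ (D.n - α - β))
        rw [← pow_add, show β + (D.n - α - β) = D.n - α by omega] at hx
        refine hβ' (i * S (D.r ^ p ^ β) (p ^ (D.n - α - β))) _ ((hKmem _).mpr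
          ⟨hx ▸ R.pow_mem hg _, ?_, hx ▸ (Commute.refl _).pow_right _⟩)
        rw [D.commute_a_pow_iff, D.hS hp, ← pow_add]
        exact Nat.pow_dvd_pow p (by omega)
      · have h := ((hKmem _).mp hg').2.1
        rw [D.commute_a_pow_iff, D.hS hp, ← pow_add, Nat.pow_dvd_pow_iff_le_right hone] at h
        omega
    have hK := D.card_eq K α' β' i' hαm' hβe' hα' hg' hβ'
    rw [show Nat.card K = Nat.card ↥(Subgroup.center R) from
      Subgroup.card_map_of_injective R.subtype_injective, hαeq, hβeq] at hK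
    have hR := D.card_eq R α β i hαm hβe hα hg hβ
    have key : Nat.card R * Nat.card ↥(Subgroup.center R) * p ^ (2 * D.n) = Nat.card G ^ 2 := by
      rw [pow_two]
      conv_rhs => rw (occs := .pos [1]) [← hR]
      conv_rhs => arg 2; rw [← hK]
      rw [show 2 * D.n = (α + β) + ((D.n - β) + (D.n - α)) by omega, pow_add]
      ring
    exact ⟨key.le, by simp [hc, key]⟩

end CfsgLib.Metacyclic76.Data
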