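import Mathlib.Algebra.Ring.GeomSum
import Mathlib.Data.Nat.Factorization.Basic
import Mathlib.Data.ZMod.Basic
import Mathlib.Algebra.BigOperators.Intervals
import Mathlib.Tactic.Ring
import Mathlib.Tactic.NormNum
import Mathlib.Algebra.BigOperators.Ring.Finset

set_option autoImplicit false

/-! Geometric sums `S r j = 1 + r + ⋯ + r^(j-1)` for `r ≡ 1` modulo an odd prime: same `p`-part as `j`. -/

namespace CfsgLib.Metacyclic76

open Finset

/-- `1 + r + ⋯ + r ^ (j - 1)`. -/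
def S (r j : ℕ) : ℕ := ∑ l ∈ range j, r ^ l

theorem S_zero (r : ℕ) : S r 0 = 0 := by simp [S]

theorem S_one (r : ℕ) : S r 1 = 1 := by simp [S]

theorem S_succ (r j : ℕ) : S r (j + 1) = S r j + r ^ j := by simp [S, sum_range_succ]

theorem S_add (r i j : ℕ) : S r (i + j) = S r i + r ^ i * S r j := by
  simp only [S, sum_range_add, mul_sum, pow_add]

theorem S_mul (r x y : ℕ) : S r (x * y) = S r x * S (r ^ x) y := by
  induction y with
  | zero => simp [S_zero]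
  | succ y ih => rw [mul_add, mul_one, S_add, ih, S_succ, ← pow_mul]; ring

theorem S_spec (e j : ℕ) : e * S (e + 1) j + 1 = (e + 1) ^ j := by
  rw [S, mul_comm]; exact geom_sum_mul_add e j

variable {p : ℕ} [Fact p.Prime] {r : ℕ}

theorem pow_modEq_one (hr : r ≡ 1 [MOD p]) (k : ℕ) : r ^ k ≡ 1 [MOD p] := by
  simpa using hr.pow k

theorem S_modEq (hr : r ≡ 1 [MOD p]) (j : ℕ) : S r j ≡ j [MOD p] := by
  induction j with
  | zero => simp [S_zero, Nat.ModEq]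
  | succ j ih => rw [S_succ]; exact ih.add (pow_modEq_one hr j)

theorem S_prime (hp : p ≠ 2) (hr : r ≡ 1 [MOD p]) : S r p ≡ p [MOD p * p] := by
  obtain ⟨k, hk⟩ : (p : ℤ) ∣ (r : ℤ) - 1 := by
    have := (Nat.modEq_iff_dvd.mp hr.symm)
    simpa using this
  have hr' : (r : ZMod (p * p)) = 1 + (p : ZMod (p * p)) * (k : ℤ) := by
    have h : ((r : ℤ) : ZMod (p * p)) = ((1 + (p : ℤ) * k : ℤ) : ZMod (p * p)) := by
      rw [← hk]; congr 1; ring
    simpa using h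
  have hpp : (p : ZMod (p * p)) * p = 0 := by
    rw [← Nat.cast_mul, ZMod.natCast_self]
  have hl : ∀ l : ℕ, (r : ZMod (p * p)) ^ l = 1 + (p : ZMod (p * p)) * (k : ℤ) * l := by
    intro l
    induction l with
    | zero => simp
    | succ l ih =>
      have e : (1 + (p : ZMod (p * p)) * (k : ℤ) * l) * (1 + (p : ZMod (p * p)) * (k : ℤ)) =
          1 + (p : ZMod (p * p)) * (k : ℤ) * ((l : ZMod (p * p)) + 1) +
            ((p : ZMod (p * p)) * p) * (k : ℤ) * (k : ℤ) * l := by ring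
      rw [pow_succ, ih, hr', e, hpp]
      push_cast
      ring
  obtain ⟨q, hq⟩ : ∃ q, ∑ l ∈ range p, l = p * q := by
    obtain ⟨q, hq⟩ := ((Fact.out : p.Prime).odd_of_ne_two hp)
    refine ⟨q, ?_⟩
    have := Finset.sum_range_id_mul_two p
    have h2 : p * (p - 1) = p * q * 2 := by rw [show p - 1 = 2 * q by omega]; ring
    omega
  rw [← ZMod.natCast_eq_natCast_iff]
  simp only [S, Nat.cast_sum, Nat.cast_pow, hl, sum_add_distrib, sum_const, card_range, nsmul_eq_mul,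
    mul_one, ← mul_sum, add_eq_left]
  rw [← Nat.cast_sum, hq, Nat.cast_mul]
  calc (p : ZMod (p * p)) * (k : ℤ) * ((p : ZMod (p * p)) * q)
      = ((p : ZMod (p * p)) * p) * ((k : ℤ) * q) := by ring
    _ = 0 := by rw [hpp, zero_mul]

theorem S_prime_pow (hp : p ≠ 2) : ∀ (v : ℕ) {r : ℕ}, r ≡ 1 [MOD p] →
    ∃ W, ¬ p ∣ W ∧ S r (p ^ v) = p ^ v * W
  | 0, r, _ => ⟨1, fun h => (Fact.out : p.Prime).ne_one (Nat.dvd_one.mp h), by simp [S_one]⟩
  | v + 1, r, hr => by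
    obtain ⟨W, hW, hW'⟩ := S_prime_pow hp v (pow_modEq_one hr p)
    have h2 := S_prime hp hr
    obtain ⟨U, hU⟩ : p ∣ S r p :=
      (Nat.ModEq.dvd_iff (Nat.ModEq.of_mul_right p h2) dvd_rfl).mpr dvd_rfl
    have hU' : ¬ p ∣ U := by
      intro h
      have h3 : p * p ∣ S r p := hU ▸ Nat.mul_dvd_mul_left p h
      have h4 : p * p ∣ p := (h2.dvd_iff dvd_rfl).mp h3
      have h5 := (Fact.out : p.Prime).two_le
      have := Nat.le_of_dvd (by omega) h4
      have h6 := Nat.mul_le_mul_left p h5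
      omega
    refine ⟨U * W, fun h => ((Fact.out : p.Prime).dvd_mul.mp h).elim hU' hW, ?_⟩
    rw [pow_succ', S_mul, hW', hU]
    ring

theorem exists_S_eq (hp : p ≠ 2) (hr : r ≡ 1 [MOD p]) (v u : ℕ) (hu : ¬ p ∣ u) :
    ∃ W, ¬ p ∣ W ∧ S r (p ^ v * u) = p ^ v * W := by
  obtain ⟨W, hW, hW'⟩ := S_prime_pow hp v hr
  refine ⟨W * S (r ^ p ^ v) u, fun h => ?_, by rw [S_mul, hW', mul_assoc]⟩
  rcases (Fact.out : p.Prime).dvd_mul.mp h with h | h
  · exact hW h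
  · exact hu (((S_modEq (pow_modEq_one hr _) u).dvd_iff dvd_rfl).mp h)

/-- The key consequence: `S r j` and `j` are interchangeable in divisibility by powers of `p`. -/
theorem dvd_mul_S (hp : p ≠ 2) (hr : r ≡ 1 [MOD p]) (k i j : ℕ) :
    p ^ k ∣ i * S r j ↔ p ^ k ∣ i * j := by
  rcases eq_or_ne j 0 with rfl | hj
  · simp [S_zero]
  obtain ⟨v, u, hu, rfl⟩ := Nat.exists_eq_pow_mul_and_not_dvd hj p (Fact.out : p.Prime).ne_one
  obtain ⟨W, hW, hW'⟩ := exists_S_eq hp hr v u hu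
  have hc : ∀ z, ¬ p ∣ z → Nat.Coprime (p ^ k) z := fun z hz =>
    ((Fact.out : p.Prime).coprime_iff_not_dvd.mpr hz).pow_left k
  rw [hW', ← mul_assoc, ← mul_assoc, (hc W hW).dvd_mul_right, (hc u hu).dvd_mul_right]

theorem dvd_S (hp : p ≠ 2) (hr : r ≡ 1 [MOD p]) (k j : ℕ) : p ^ k ∣ S r j ↔ p ^ k ∣ j := by
  simpa using dvd_mul_S hp hr k 1 j

/-- Solving `t * S r (p ^ β) ≡ z` modulo `p ^ M`. -/
theorem exists_mul_S_modEq (hp : p ≠ 2) (hr : r ≡ 1 [MOD p]) (M β z : ℕ) (hz : p ^ β ∣ z) :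
    ∃ t, t * S r (p ^ β) ≡ z [MOD p ^ M] := by
  obtain ⟨W, hW, hW'⟩ := S_prime_pow hp β hr
  obtain ⟨w, rfl⟩ := hz
  have hc : Nat.Coprime W (p ^ M) :=
    (((Fact.out : p.Prime).coprime_iff_not_dvd.mpr hW).pow_left M).symm
  refine ⟨w * ((ZMod.unitOfCoprime W hc)⁻¹ : (ZMod (p ^ M))ˣ).val.val, ?_⟩
  haveI : NeZero (p ^ M) := ⟨pow_ne_zero _ (Fact.out : p.Prime).ne_zero⟩
  rw [hW', ← ZMod.natCast_eq_natCast_iff]
  push_cast
  rw [ZMod.natCast_zmod_val]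
  have h1 : ((ZMod.unitOfCoprime W hc)⁻¹ : (ZMod (p ^ M))ˣ).val * (W : ZMod (p ^ M)) = 1 := by
    rw [← ZMod.coe_unitOfCoprime W hc, Units.inv_mul]
  calc (w : ZMod (p ^ M)) * ((ZMod.unitOfCoprime W hc)⁻¹ : (ZMod (p ^ M))ˣ).val * ((p : ZMod (p ^ M)) ^ β * W)
      = (p : ZMod (p ^ M)) ^ β * w * (((ZMod.unitOfCoprime W hc)⁻¹ : (ZMod (p ^ M))ˣ).val * W) := by ring
    _ = _ := by rw [h1, mul_one]

end CfsgLib.Metacyclic76
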