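import Cfsg.Agent.Lib.Metacyclic76.Arith
import Mathlib.GroupTheory.Sylow
import Mathlib.GroupTheory.SpecificGroups.Cyclic
import Mathlib.GroupTheory.Abelianization.Defs
import Mathlib.Tactic.Group
import Cfsg.Prelude.Def_OddOrderLocal

set_option autoImplicit false

/-! Coordinates for a metacyclic `p`-group, `p` odd: elements `a^i b^j`, the commutation criterion,
the derived subgroup and the centre. -/

namespace CfsgLib.Metacyclic76

open scoped commutatorElement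

/-- In a finite `p`-group the exponents `t` with `x ^ t ∈ H` are the multiples of a power of `p`. -/
theorem exists_pow_mem_iff {G : Type*} [Group G] [Finite G] {p : ℕ} [Fact p.Prime] (hG : IsPGroup p G)
    (x : G) (H : Subgroup G) (M : ℕ) (hM : x ^ p ^ M ∈ H) :
    ∃ α ≤ M, ∀ t : ℕ, x ^ t ∈ H ↔ p ^ α ∣ t := by
  classical
  have hex : ∃ k, x ^ p ^ k ∈ H := ⟨M, hM⟩
  refine ⟨Nat.find hex, Nat.find_le hM, fun t => ⟨fun ht => ?_, ?_⟩⟩
  · rcases eq_or_ne t 0 with rfl | h0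
    · exact dvd_zero _
    obtain ⟨v, u, hu, rfl⟩ := Nat.exists_eq_pow_mul_and_not_dvd h0 p (Fact.out : p.Prime).ne_one
    refine Dvd.dvd.mul_right (Nat.pow_dvd_pow p (Nat.find_le ?_)) u
    obtain ⟨k, hk⟩ := IsPGroup.iff_orderOf.mp hG (x ^ p ^ v)
    obtain ⟨w, hw⟩ := exists_pow_eq_self_of_coprime (x := x ^ p ^ v) (n := u)
      (by rw [hk]; exact (((Fact.out : p.Prime).coprime_iff_not_dvd.mpr hu).pow_left k).symm)
    rw [← hw, ← pow_mul x]
    exact H.pow_mem ht w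
  · rintro ⟨q, rfl⟩
    rw [pow_mul]
    exact H.pow_mem (Nat.find_spec hex) q

theorem orderOf_pow_mul {G : Type*} [Group G] {p : ℕ} [Fact p.Prime] (x : G) (m α : ℕ)
    (hx : orderOf x = p ^ m) (hα : α ≤ m) : orderOf (x ^ p ^ α) * p ^ α = p ^ m := by
  rw [orderOf_pow' x (pow_ne_zero _ (Fact.out : p.Prime).ne_zero), hx,
    Nat.gcd_eq_right (Nat.pow_dvd_pow p hα), Nat.div_mul_cancel (Nat.pow_dvd_pow p hα)]

/-- A presentation of a finite metacyclic `p`-group by two generators. -/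
structure Data (G : Type*) [Group G] (p : ℕ) where
  a : G
  b : G
  d : ℕ
  m : ℕ
  e : ℕ
  n : ℕ
  hd : p ∣ d
  hconj : b * a * b⁻¹ = a ^ (d + 1)
  hm : orderOf a = p ^ m
  hn : orderOf (a ^ d) = p ^ n
  normalA : (Subgroup.zpowers a).Normal
  hgen : ∀ g : G, ∃ i j : ℕ, g = a ^ i * b ^ j
  hmem : ∀ j : ℕ, b ^ j ∈ Subgroup.zpowers a ↔ p ^ e ∣ j
  hcard : Nat.card G = p ^ m * p ^ e

theorem exists_data {G : Type*} [Group G] [Finite G] {p : ℕ} [Fact p.Prime] (hG : IsPGroup p G)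
    (hmc : Cfsg.IsMetacyclic G) : Nonempty (Data G p) := by
  obtain ⟨N, hN, hNc, hQc⟩ := hmc
  obtain ⟨a, ha⟩ := N.isCyclic_iff_exists_zpowers_eq_top.mp hNc
  subst ha
  obtain ⟨q, hq⟩ := hQc.exists_generator
  obtain ⟨b, rfl⟩ := QuotientGroup.mk_surjective q
  obtain ⟨m, hm⟩ := IsPGroup.iff_orderOf.mp hG a
  set e := (Nat.card (G ⧸ Subgroup.zpowers a)).factorization p with he
  obtain ⟨e', he'⟩ := IsPGroup.iff_card.mp (hG.to_quotient (Subgroup.zpowers a))
  have hob : orderOf (b : G ⧸ Subgroup.zpowers a) = p ^ e' := by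
    rw [orderOf_eq_card_of_forall_mem_zpowers hq, he']
  have hmem : ∀ j : ℕ, b ^ j ∈ Subgroup.zpowers a ↔ p ^ e' ∣ j := fun j => by
    rw [← QuotientGroup.eq_one_iff, QuotientGroup.mk_pow, ← orderOf_dvd_iff_pow_eq_one, hob]
  obtain ⟨r, hr⟩ : ∃ r : ℕ, a ^ r = b * a * b⁻¹ := by
    have := hN.conj_mem a (Subgroup.mem_zpowers a) b
    rw [← mem_powers_iff_mem_zpowers] at this
    exact this
  -- the exponent of the conjugation is `1` modulo `p`
  obtain ⟨d, hd, hdconj⟩ : ∃ d, p ∣ d ∧ b * a * b⁻¹ = a ^ (d + 1) := by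
    rcases Nat.eq_zero_or_pos m with rfl | hm0
    · refine ⟨0, dvd_zero p, ?_⟩
      rw [pow_zero, orderOf_eq_one_iff] at hm
      simp [hm]
    have hiter : ∀ j, b ^ j * a * (b ^ j)⁻¹ = a ^ r ^ j := by
      intro j
      induction j with
      | zero => simp
      | succ j ih =>
        rw [pow_succ' b, pow_succ' r, pow_mul, hr, conj_pow, ← ih]
        group
    obtain ⟨k, hk⟩ := IsPGroup.iff_orderOf.mp hG b
    have h1 : r ^ p ^ k ≡ 1 [MOD p ^ m] := by
      rw [← hm, ← pow_eq_pow_iff_modEq, ← hiter, ← hk, pow_orderOf_eq_one]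
      simp
    have h2 : r ≡ 1 [MOD p] := by
      have h3 := h1.of_dvd (dvd_pow_self p hm0.ne')
      rw [← ZMod.natCast_eq_natCast_iff] at h3 ⊢
      simpa [ZMod.pow_card_pow] using h3
    have hr1 : r ≠ 0 := fun h => by
      subst h
      exact (Fact.out : p.Prime).ne_one (Nat.dvd_one.mp ((Nat.modEq_zero_iff_dvd).mp h2.symm))
    exact ⟨r - 1, (Nat.modEq_iff_dvd' (Nat.pos_of_ne_zero hr1)).mp h2.symm,
      by rw [Nat.sub_add_cancel (Nat.pos_of_ne_zero hr1)]; exact hr.symm⟩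
  obtain ⟨n, hn⟩ := IsPGroup.iff_orderOf.mp hG (a ^ d)
  refine ⟨⟨a, b, d, m, e', n, hd, hdconj, hm, hn, hN, fun g => ?_, hmem, ?_⟩⟩
  · obtain ⟨j, hj⟩ : (g : G ⧸ Subgroup.zpowers a) ∈ Submonoid.powers (b : G ⧸ Subgroup.zpowers a) :=
      mem_powers_iff_mem_zpowers.mpr (hq _)
    have hh : g * (b ^ j)⁻¹ ∈ Subgroup.zpowers a := by
      rw [← QuotientGroup.eq_one_iff, QuotientGroup.mk_mul, QuotientGroup.mk_inv, QuotientGroup.mk_pow]
      simpa using mul_inv_eq_one.mpr hj.symm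
    obtain ⟨i, hi⟩ := mem_powers_iff_mem_zpowers.mpr hh
    exact ⟨i, j, by rw [show a ^ i = g * (b ^ j)⁻¹ from hi, inv_mul_cancel_right]⟩
  · rw [Subgroup.card_eq_card_quotient_mul_card_subgroup (Subgroup.zpowers a), he', Nat.card_zpowers,
      hm, mul_comm]

namespace Data

variable {G : Type*} [Group G] {p : ℕ} (D : Data G p)

/-- The conjugation exponent. -/
def r : ℕ := D.d + 1

theorem r_modEq : D.r ≡ 1 [MOD p] := by
  simpa [r] using (Nat.modEq_zero_iff_dvd.mpr D.hd).add_right 1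

theorem b_pow_mul_a_pow (i j : ℕ) : D.b ^ j * D.a ^ i = D.a ^ (i * D.r ^ j) * D.b ^ j := by
  induction j generalizing i with
  | zero => simp
  | succ j ih =>
    have h1 : D.b * D.a ^ i = D.a ^ (i * D.r) * D.b := by
      rw [mul_comm i, pow_mul, ← mul_inv_eq_iff_eq_mul, r, ← D.hconj, conj_pow]
    rw [pow_succ, mul_assoc, h1, ← mul_assoc, ih, mul_assoc, pow_succ' D.r, mul_assoc i]

theorem mul_rule (i j t l : ℕ) :
    (D.a ^ i * D.b ^ j) * (D.a ^ t * D.b ^ l) = D.a ^ (i + t * D.r ^ j) * D.b ^ (j + l) := by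
  rw [mul_assoc, ← mul_assoc (D.b ^ j), D.b_pow_mul_a_pow, pow_add, pow_add]
  simp only [mul_assoc]

theorem pow_rule (i j t : ℕ) :
    (D.a ^ i * D.b ^ j) ^ t = D.a ^ (i * S (D.r ^ j) t) * D.b ^ (j * t) := by
  induction t with
  | zero => simp [S_zero]
  | succ t ih =>
    rw [pow_succ, ih, D.mul_rule, S_succ, ← pow_mul]
    congr 2 <;> ring

theorem r_pow (j : ℕ) : D.r ^ j = D.d * S D.r j + 1 := (S_spec D.d j).symm

theorem commute_iff (i j t l : ℕ) :
    Commute (D.a ^ i * D.b ^ j) (D.a ^ t * D.b ^ l) ↔ t * S D.r j ≡ i * S D.r l [MOD p ^ D.n] := by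
  unfold Commute SemiconjBy
  rw [D.mul_rule, D.mul_rule, add_comm l j, mul_left_inj]
  have e : ∀ x y z : ℕ, D.a ^ (x + y * D.r ^ z) = D.a ^ (x + y) * (D.a ^ D.d) ^ (y * S D.r z) := by
    intro x y z
    rw [← pow_mul, ← pow_add, D.r_pow]
    congr 1
    ring
  rw [e, e, add_comm t i, mul_right_inj, pow_eq_pow_iff_modEq, D.hn]

theorem commute_a_pow_iff (s t l : ℕ) :
    Commute (D.a ^ s) (D.a ^ t * D.b ^ l) ↔ p ^ D.n ∣ s * S D.r l := by
  have h := D.commute_iff s 0 t l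
  rw [pow_zero, mul_one, S_zero, mul_zero] at h
  rw [h, ← Nat.modEq_zero_iff_dvd]
  exact ⟨Nat.ModEq.symm, Nat.ModEq.symm⟩

variable [Fact p.Prime]

theorem hS (hp : p ≠ 2) (k i j : ℕ) : p ^ k ∣ i * S D.r j ↔ p ^ k ∣ i * j :=
  dvd_mul_S hp D.r_modEq k i j

theorem n_le_m : D.n ≤ D.m := by
  have h : p ^ D.n ∣ p ^ D.m := D.hn ▸ D.hm ▸ orderOf_pow_dvd D.d
  exact (Nat.pow_dvd_pow_iff_le_right (Fact.out : p.Prime).one_lt).mp h

theorem d_dvd_of_pow_eq {t u : ℕ} (h : D.a ^ t = D.a ^ u) : t ≡ u [MOD p ^ D.m] := by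
  rw [← D.hm]; exact pow_eq_pow_iff_modEq.mp h

theorem n_le_e [Finite G] (hp : p ≠ 2) : D.n ≤ D.e := by
  obtain ⟨c, hc⟩ := mem_powers_iff_mem_zpowers.mpr ((D.hmem (p ^ D.e)).mpr dvd_rfl)
  have h : Commute (D.a ^ 1) (D.a ^ 0 * D.b ^ p ^ D.e) := by
    rw [pow_zero, one_mul, ← (show D.a ^ c = D.b ^ p ^ D.e from hc)]
    exact Commute.pow_pow_self D.a 1 c
  rw [D.commute_a_pow_iff, D.hS hp, one_mul] at h
  exact (Nat.pow_dvd_pow_iff_le_right (Fact.out : p.Prime).one_lt).mp h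

/-- The exponent `c` with `b ^ p ^ e = a ^ c` is divisible by `p ^ n`. -/
theorem dvd_of_b_pow_eq {j c : ℕ} (h : D.b ^ j = D.a ^ c) : p ^ D.n ∣ c := by
  have h' : Commute (D.a ^ c) (D.a ^ 0 * D.b ^ 1) := by
    rw [pow_zero, one_mul, pow_one, ← h]; exact (Commute.refl D.b).pow_left j
  rwa [D.commute_a_pow_iff, S_one, mul_one] at h'

theorem mem_center_iff (hp : p ≠ 2) (i j : ℕ) :
    D.a ^ i * D.b ^ j ∈ Subgroup.center G ↔ p ^ D.n ∣ i ∧ p ^ D.n ∣ j := by
  constructor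
  · intro h
    have ha : Commute (D.a ^ 1) (D.a ^ i * D.b ^ j) :=
      (Subgroup.mem_center_iff.mp h (D.a ^ 1) : _)
    have hb : Commute (D.a ^ i * D.b ^ j) (D.a ^ 0 * D.b ^ 1) :=
      (Subgroup.mem_center_iff.mp h (D.a ^ 0 * D.b ^ 1)).symm
    rw [D.commute_a_pow_iff, D.hS hp, one_mul] at ha
    rw [D.commute_iff, S_one, mul_one, zero_mul] at hb
    exact ⟨Nat.modEq_zero_iff_dvd.mp hb.symm, ha⟩
  · rintro ⟨hi, hj⟩
    rw [Subgroup.mem_center_iff]
    intro g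
    obtain ⟨t, l, rfl⟩ := D.hgen g
    have h : Commute (D.a ^ i * D.b ^ j) (D.a ^ t * D.b ^ l) := by
      rw [D.commute_iff]
      refine (Nat.modEq_zero_iff_dvd.mpr ?_).trans (Nat.modEq_zero_iff_dvd.mpr ?_).symm
      · rw [D.hS hp]; exact dvd_mul_of_dvd_right hj t
      · exact dvd_mul_of_dvd_left hi _
    exact h.eq.symm

theorem pow_mem_center_iff (hp : p ≠ 2) (i j k : ℕ) :
    (D.a ^ i * D.b ^ j) ^ p ^ k ∈ Subgroup.center G ↔
      p ^ D.n ∣ i * p ^ k ∧ p ^ D.n ∣ j * p ^ k := by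
  rw [D.pow_rule, D.mem_center_iff hp,
    dvd_mul_S hp (by simpa using D.r_modEq.pow j) D.n i (p ^ k)]

theorem commutator_eq [Finite G] : commutator G = Subgroup.zpowers (D.a ^ D.d) := by
  apply le_antisymm
  · rw [commutator_def, Subgroup.commutator_le]
    intro x _ y _
    obtain ⟨i, j, rfl⟩ := D.hgen x
    obtain ⟨t, l, rfl⟩ := D.hgen y
    have e : ∀ x y z : ℕ, D.a ^ (x + y * D.r ^ z) = D.a ^ (x + y) * (D.a ^ D.d) ^ (y * S D.r z) := by
      intro x y z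
      rw [← pow_mul, ← pow_add, D.r_pow]
      congr 1
      ring
    have hxy := D.mul_rule i j t l
    have hyx := D.mul_rule t l i j
    rw [commutatorElement_def,
      show ∀ u v : G, u * v * u⁻¹ * v⁻¹ = (u * v) * (v * u)⁻¹ from fun u v => by group,
      hxy, hyx, add_comm l j, e, e, add_comm t i]
    have hc : ∀ s k u : ℕ, D.a ^ s * (D.a ^ D.d) ^ k * D.b ^ (j + l) *
        (D.a ^ s * (D.a ^ D.d) ^ u * D.b ^ (j + l))⁻¹ = (D.a ^ D.d) ^ k * ((D.a ^ D.d) ^ u)⁻¹ := by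
      intro s k u
      have hcs : ∀ w, Commute (D.a ^ s) ((D.a ^ D.d) ^ w) := fun w => by
        rw [← pow_mul]; exact Commute.pow_pow_self _ _ _
      rw [(hcs k).eq, (hcs u).eq]
      group
    rw [hc]
    exact mul_mem (Subgroup.npow_mem_zpowers _ _) (inv_mem (Subgroup.npow_mem_zpowers _ _))
  · rw [Subgroup.zpowers_le, commutator_def]
    have h : ⁅D.b, D.a⁆ = D.a ^ D.d := by
      rw [commutatorElement_def, D.hconj, pow_succ, mul_inv_cancel_right]
    exact h ▸ Subgroup.commutator_mem_commutator (Subgroup.mem_top _) (Subgroup.mem_top _)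

theorem card_commutator [Finite G] : Nat.card ↥(commutator G) = p ^ D.n := by
  rw [D.commutator_eq, Nat.card_zpowers, D.hn]

theorem index_commutator_mul [Finite G] : (commutator G).index * p ^ D.n = Nat.card G := by
  rw [← D.card_commutator, Subgroup.index_mul_card]

end Data

end CfsgLib.Metacyclic76
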